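import Cfsg.Agent.H7.ON.Rel
import Cfsg.Agent.H7.ON.Chk
import Cfsg.Agent.H7.ON.TC
import Cfsg.Prelude.Def_Spor_ON
import Cfsg.Agent.H7.Pt

set_option autoImplicit false
set_option maxRecDepth 100000

namespace CfsgH7.ON

open MulAction

theorem card_rel5 {G : Type*} [Group G] (g : Nat → G) (h : Sat g RS) :
    (genW g ONT5.subs).relIndex (genW g ONT5.W0) ≠ 0 ∧ (genW g ONT5.subs).relIndex (genW g ONT5.W0) ≤ 2 :=
  have hf := h.follows (invs := ONT5.invs) (rels := ONT5.rels) (by decide +kernel)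
  ONT5.relIndex g _ hf.1 hf.2 fun _ hh => mem_genW g hh

theorem card5 {G : Type*} [Group G] (g : Nat → G) (h : Sat g RS) :
    CardLe (genW g ONT5.W0) 2 :=
  CardLe.of_relIndex (K1 := genW g ONT5.subs) (m := 1) (n := 2) (cardLe_bot_genW g) (card_rel5 g h)

theorem card_rel4 {G : Type*} [Group G] (g : Nat → G) (h : Sat g RS) :
    (genW g ONT4.subs).relIndex (genW g ONT4.W0) ≠ 0 ∧ (genW g ONT4.subs).relIndex (genW g ONT4.W0) ≤ 3 :=
  have hf := h.follows (invs := ONT4.invs) (rels := ONT4.rels) (by decide +kernel)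
  ONT4.relIndex g _ hf.1 hf.2 fun _ hh => mem_genW g hh

theorem card4 {G : Type*} [Group G] (g : Nat → G) (h : Sat g RS) :
    CardLe (genW g ONT4.W0) 6 :=
  CardLe.of_relIndex (K1 := genW g ONT4.subs) (m := 2) (n := 3) (card5 g h) (card_rel4 g h)

theorem card_rel3 {G : Type*} [Group G] (g : Nat → G) (h : Sat g RS) :
    (genW g ONT3.subs).relIndex (genW g ONT3.W0) ≠ 0 ∧ (genW g ONT3.subs).relIndex (genW g ONT3.W0) ≤ 4 :=
  have hf := h.follows (invs := ONT3.invs) (rels := ONT3.rels) (by decide +kernel)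
  ONT3.relIndex g _ hf.1 hf.2 fun _ hh => mem_genW g hh

theorem card3 {G : Type*} [Group G] (g : Nat → G) (h : Sat g RS) :
    CardLe (genW g ONT3.W0) 24 :=
  CardLe.of_relIndex (K1 := genW g ONT3.subs) (m := 6) (n := 4) (card4 g h) (card_rel3 g h)

theorem card_rel2 {G : Type*} [Group G] (g : Nat → G) (h : Sat g RS) :
    (genW g ONT2.subs).relIndex (genW g ONT2.W0) ≠ 0 ∧ (genW g ONT2.subs).relIndex (genW g ONT2.W0) ≤ 28 :=
  have hf := h.follows (invs := ONT2.invs) (rels := ONT2.rels) (by decide +kernel)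
  ONT2.relIndex g _ hf.1 hf.2 fun _ hh => mem_genW g hh

theorem card2 {G : Type*} [Group G] (g : Nat → G) (h : Sat g RS) :
    CardLe (genW g ONT2.W0) 672 :=
  CardLe.of_relIndex (K1 := genW g ONT2.subs) (m := 24) (n := 28) (card3 g h) (card_rel2 g h)

theorem card_rel1 {G : Type*} [Group G] (g : Nat → G) (h : Sat g RS) :
    (genW g ONT1.subs).relIndex (genW g ONT1.W0) ≠ 0 ∧ (genW g ONT1.subs).relIndex (genW g ONT1.W0) ≤ 5586 :=
  have hf := h.follows (invs := ONT1.invs) (rels := ONT1.rels) (by decide +kernel)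
  ONT1.relIndex g _ hf.1 hf.2 fun _ hh => mem_genW g hh

theorem card1 {G : Type*} [Group G] (g : Nat → G) (h : Sat g RS) :
    CardLe (genW g ONT1.W0) 3753792 :=
  CardLe.of_relIndex (K1 := genW g ONT1.subs) (m := 672) (n := 5586) (card2 g h) (card_rel1 g h)

theorem card_rel0 {G : Type*} [Group G] (g : Nat → G) (h : Sat g RS) :
    (genW g ONT0.subs).relIndex (genW g ONT0.W0) ≠ 0 ∧ (genW g ONT0.subs).relIndex (genW g ONT0.W0) ≤ 122760 :=
  have hf := h.follows (invs := ONT0.invs) (rels := ONT0.rels) (by decide +kernel)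
  ONT0.relIndex g _ hf.1 hf.2 fun _ hh => mem_genW g hh

theorem card0 {G : Type*} [Group G] (g : Nat → G) (h : Sat g RS) :
    CardLe (genW g ONT0.W0) 460815505920 :=
  CardLe.of_relIndex (K1 := genW g ONT0.subs) (m := 3753792) (n := 122760) (card1 g h) (card_rel0 g h)

def gens : List Cfsg.Spor.ON.Gen := [.g, .a, .b, .c, .d, .e, .f]
theorem hall : ∀ u, u ∈ gens := by intro u; cases u <;> decide
abbrev rels : Set (FreeGroup Cfsg.Spor.ON.Gen) :=
  Cfsg.Spor.coxRelators Cfsg.Spor.ON.edges ∪ {r | r ∈ Cfsg.Spor.ON.extra}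
def g : Nat → Cfsg.Spor.ON := pg rels gens
def invs0 : List Nat := [1,2,3,4,5,6]
theorem sat : Sat g RS := ((cox_sat hall _ _).follows (invs := invs0) (by decide +kernel)).2
theorem satC {H : Type*} [Group H] {h : Nat → H} (hs : Sat h RS) :
    Sat h (coxW gens Cfsg.Spor.ON.edges Cfsg.Spor.ON.extra) :=
  (hs.follows (invs := invs0) (by decide +kernel)).2
theorem gen : genW g (gensW 7) = ⊤ := pg_gen rels hall
noncomputable def φ : Cfsg.Spor.ON →* Equiv.Perm (Fin 122760) := coxLift (satC sat0)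
theorem φ_g (k : Nat) : φ (g k) = finGen 122760 l k :=
  coxLift_pg (satC sat0) (by decide) (fun k hk => finGen_of_le _ l _ hk) k
noncomputable scoped instance act : MulAction Cfsg.Spor.ON (Fin 122760) := MulAction.compHom _ φ
theorem R : Rep (finPt 122760) 122760 g l := R0.comp φ φ_g
theorem cardLe : CardLe (⊤ : Subgroup Cfsg.Spor.ON) 460815505920 := gen ▸ card0 g sat
instance fin : Finite Cfsg.Spor.ON := cardLe.top_finite
theorem card : Nat.card Cfsg.Spor.ON = 460815505920 := by
  refine le_antisymm cardLe.top_le ?_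
  have := R.chain_card_ge (finPt_inj _) (d := 17) (by norm_num) ⊤ hC (fun _ _ => trivial)
  rw [Subgroup.card_top] at this
  exact le_trans (by decide +kernel) this
theorem base : IsBase (⊤ : Subgroup Cfsg.Spor.ON) (finPt 122760) bs := fun _ hx hf =>
  R.chain_base (finPt_inj _) (d := 17) (by norm_num) ⊤ hC (fun _ _ => trivial)
    (by rw [Subgroup.card_top, card]; decide +kernel) hx hf
theorem index_stab : (stabilizer Cfsg.Spor.ON (finPt 122760 0)).index = 122760 :=
  R.index_stab (finPt_inj _) gen (by norm_num) cov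
theorem card_stab : Nat.card (stabilizer Cfsg.Spor.ON (finPt 122760 0)) = 3753792 := by
  have := (stabilizer Cfsg.Spor.ON (finPt 122760 0)).index_mul_card
  rw [index_stab, card] at this
  exact Nat.eq_of_mul_eq_mul_left (by norm_num) (this.trans (by norm_num))
theorem W1_fix : ∀ w ∈ W1, wprod g w • finPt 122760 0 = finPt 122760 0 := fun w hw =>
  R.mapsTo_act (by norm_num) (lall_iff.1 hW1 w hw)
theorem coatom : IsCoatom (stabilizer Cfsg.Spor.ON (finPt 122760 0)) :=
  R.isCoatom gen (by norm_num) (C := P) W1_fix hPc hP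
    (fun e => by have := index_stab; rw [e, Subgroup.index_top] at this; omega)
theorem core : (stabilizer Cfsg.Spor.ON (finPt 122760 0)).normalCore = ⊥ :=
  base.normalCore fun b hb => by
    obtain ⟨x, _, e⟩ := R.covers_spec (K := ⊤) (fun _ _ => trivial) cov b (hbs b hb)
    exact ⟨x, e⟩
theorem K_eq : genW g W1 = stabilizer Cfsg.Spor.ON (finPt 122760 0) := by
  have h := card_rel0 g sat
  have e : genW g ONT0.W0 = ⊤ := gen
  rw [e, Subgroup.relIndex_top_right] at h
  exact eq_of_index_le (genW_le.2 W1_fix) h.1 (by rw [index_stab]; exact h.2)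
theorem orbS0 : orbit (genW g W1) (wprod g [0] • finPt 122760 0) = finPt 122760 '' (bset 122760 S0 : Set Nat) := by
  rw [R.mapsTo_act (w := [0]) (b := 1) (by norm_num) (band_iff.1 hP0).1, R.orbit_eq (by norm_num) hS0]
theorem orb0 : (orbit (genW g W1) (wprod g [0] • finPt 122760 0)).ncard = 58653 := by
  rw [orbS0, ncard_image_bset (finPt_inj _) (d := 17) (by norm_num), cS0]
theorem orbS1 : orbit (genW g W1) (wprod g [0,4,0] • finPt 122760 0) = finPt 122760 '' (bset 122760 S1 : Set Nat) := by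
  rw [R.mapsTo_act (w := [0,4,0]) (b := 6) (by norm_num) (band_iff.1 hP1).1, R.orbit_eq (by norm_num) hS1]
theorem orb1 : (orbit (genW g W1) (wprod g [0,4,0] • finPt 122760 0)).ncard = 52136 := by
  rw [orbS1, ncard_image_bset (finPt_inj _) (d := 17) (by norm_num), cS1]
theorem orbS2 : orbit (genW g W1) (wprod g [0,6,0] • finPt 122760 0) = finPt 122760 '' (bset 122760 S2 : Set Nat) := by
  rw [R.mapsTo_act (w := [0,6,0]) (b := 12) (by norm_num) (band_iff.1 hP2).1, R.orbit_eq (by norm_num) hS2]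
theorem orb2 : (orbit (genW g W1) (wprod g [0,6,0] • finPt 122760 0)).ncard = 5586 := by
  rw [orbS2, ncard_image_bset (finPt_inj _) (d := 17) (by norm_num), cS2]
theorem orbS3 : orbit (genW g W1) (wprod g [0,8,4,0] • finPt 122760 0) = finPt 122760 '' (bset 122760 S3 : Set Nat) := by
  rw [R.mapsTo_act (w := [0,8,4,0]) (b := 32) (by norm_num) (band_iff.1 hP3).1, R.orbit_eq (by norm_num) hS3]
theorem orb3 : (orbit (genW g W1) (wprod g [0,8,4,0] • finPt 122760 0)).ncard = 6384 := by
  rw [orbS3, ncard_image_bset (finPt_inj _) (d := 17) (by norm_num), cS3]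
def x : List Nat := [0,8,10,4,2,6,4]
theorem br (a b : Nat) (h : wpow [2 * a, 2 * b] 3 ∈ RS) : (g a * g b) ^ 3 = 1 := by
  simpa [wprod_wpow, wprod_cons, letter_even] using sat _ h
theorem br' (a b : Nat) (h : wpow [2 * a, 2 * b] 3 ∈ RS) : (g b * g a) ^ 3 = 1 := by
  have : g b * g a = (g a)⁻¹ * (g a * g b) * (g a)⁻¹⁻¹ := by group
  rw [this, conj_pow, br a b h]; simp
theorem inv (k : Nat) (hk : k ∈ invs0) : g k * g k = 1 :=
  (sat.follows (invs := invs0) (rels := []) (by decide +kernel)).1 k hk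
theorem nc (N : Subgroup Cfsg.Spor.ON) (hN : N.Normal) (hx : wprod g x ∈ N) : N = ⊤ := by
  have a1 : wprod g [2] ∈ N := base.conjP R hbs hN hx [[],[8],[],[8]] [4,6,1,4,1,6,8] _ (by decide +kernel)
  have h1 : g 1 ∈ N := wprod_single g 1 ▸ a1
  have h2 := mem_of_braid hN (inv 1 (by decide)) (inv 2 (by decide)) (br 1 2 (by decide +kernel)) h1
  have h3 := mem_of_braid hN (inv 2 (by decide)) (inv 3 (by decide)) (br 2 3 (by decide +kernel)) h2
  have hs := sat.map (QuotientGroup.mk' N)
  have q : ∀ k, g k ∈ N → QuotientGroup.mk' N (g k) = 1 := fun k hk => (QuotientGroup.eq_one_iff _).2 hk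
  have h6 : g 6 ∈ N := by
    have r1 := hs [2, 12, 9, 7, 9, 7, 9, 7, 9, 7] (by decide +kernel)
    have r2 : QuotientGroup.mk' N (g 4) * QuotientGroup.mk' N (g 4) = 1 := by
      rw [← map_mul, inv 4 (by decide), map_one]
    simp only [wprod_cons, wprod_nil, letter, Nat.reduceMod, Nat.reduceDiv, if_true, q 1 h1, q 3 h3,
      one_mul, mul_one, one_ne_zero, if_false, inv_one, inv_eq_of_mul_eq_one_right r2, r2] at r1
    exact (QuotientGroup.eq_one_iff _).1 r1
  have h5 := mem_of_braid hN (inv 6 (by decide)) (inv 5 (by decide)) (br' 5 6 (by decide +kernel)) h6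
  have h4 := mem_of_braid hN (inv 5 (by decide)) (inv 4 (by decide)) (br' 4 5 (by decide +kernel)) h5
  have h0 : g 0 ∈ N := by
    have r1 := hs [2, 12, 1, 1] (by decide +kernel)
    have r2 := hs (wpow [4, 6, 8, 0] 5) (by decide +kernel)
    rw [wprod_wpow] at r2
    simp only [wprod_cons, wprod_nil, letter, Nat.reduceMod, Nat.reduceDiv, if_true, q 1 h1, q 2 h2, q 3 h3,
      q 4 h4, q 6 h6, one_mul, mul_one, one_ne_zero, if_false] at r1 r2
    rw [← QuotientGroup.eq_one_iff]
    have r3 : QuotientGroup.mk' N (g 0) ^ 2 = 1 := by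
      rw [← mul_inv_rev, inv_eq_one] at r1; rw [pow_two, r1]
    have : QuotientGroup.mk' N (g 0) ^ 5 = (QuotientGroup.mk' N (g 0) ^ 2) ^ 2 * QuotientGroup.mk' N (g 0) := by group
    rw [this, r3, one_pow, one_mul] at r2
    exact r2
  refine eq_top_of_gens gen fun k hk => ?_
  interval_cases k <;> assumption
theorem x_pow : wprod g x ^ 31 = 1 := base.powP R hbs (by decide +kernel)
theorem simple : IsSimpleGroup Cfsg.Spor.ON :=
  simple_of_coatom_coprime coatom core x_pow (by rw [card_stab]; decide +kernel) nc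

end CfsgH7.ON
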