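import Cfsg.Agent.H7.ON.ONT0D

set_option autoImplicit false
set_option maxRecDepth 100000

namespace CfsgH7.ONT0

theorem c8 : Nat.beq (nsum2 D.val 63488 124 64) 3956 = true := by decide +kernel

theorem c9 : Nat.beq (nsum2 D.val 71424 124 64) 2979 = true := by decide +kernel

theorem c10 : Nat.beq (nsum2 D.val 79360 124 64) 3879 = true := by decide +kernel

theorem c11 : Nat.beq (nsum2 D.val 87296 124 64) 4382 = true := by decide +kernel

theorem c12 : Nat.beq (nsum2 D.val 95232 124 64) 5229 = true := by decide +kernel

theorem c13 : Nat.beq (nsum2 D.val 103168 124 64) 3398 = true := by decide +kernel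

theorem c14 : Nat.beq (nsum2 D.val 111104 124 64) 4170 = true := by decide +kernel

theorem c15 : Nat.beq (nsum2 D.val 119040 124 64) 4399 = true := by decide +kernel


end CfsgH7.ONT0
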