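import Cfsg.Agent.H7.ON.ONT0D

set_option autoImplicit false
set_option maxRecDepth 100000

namespace CfsgH7.ONT0

theorem c16 : Nat.beq (nsum2 D.val 126976 124 64) 3159 = true := by decide +kernel

theorem c17 : Nat.beq (nsum2 D.val 134912 124 64) 3040 = true := by decide +kernel

theorem c18 : Nat.beq (nsum2 D.val 142848 124 64) 2033 = true := by decide +kernel

theorem c19 : Nat.beq (nsum2 D.val 150784 124 64) 3214 = true := by decide +kernel

theorem c20 : Nat.beq (nsum2 D.val 158720 124 64) 7550 = true := by decide +kernel

theorem c21 : Nat.beq (nsum2 D.val 166656 124 64) 7735 = true := by decide +kernel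

theorem c22 : Nat.beq (nsum2 D.val 174592 124 64) 7838 = true := by decide +kernel

theorem c23 : Nat.beq (nsum2 D.val 182528 124 64) 7895 = true := by decide +kernel


end CfsgH7.ONT0
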