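import Cfsg.Agent.H7.ON.ONT0D

set_option autoImplicit false
set_option maxRecDepth 100000

namespace CfsgH7.ONT0

theorem c24 : Nat.beq (nsum2 D.val 190464 124 64) 7087 = true := by decide +kernel


end CfsgH7.ONT0
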