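import Cfsg.Agent.H7.ON.ONT0C0
import Cfsg.Agent.H7.ON.ONT0C1
import Cfsg.Agent.H7.ON.ONT0C2
import Cfsg.Agent.H7.ON.ONT0C3

set_option autoImplicit false
set_option maxRecDepth 100000

namespace CfsgH7.ONT0

theorem pre : tcPre D cl invs rels subs W0 198400 122760 = true := by decide +kernel

theorem u0 : Upto D.val 0 0 := Upto.zero _
theorem u1 : Upto D.val 7936 5667 := u0.step c0 (by decide) (by decide)
theorem u2 : Upto D.val 15872 11074 := u1.step c1 (by decide) (by decide)
theorem u3 : Upto D.val 23808 15755 := u2.step c2 (by decide) (by decide)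
theorem u4 : Upto D.val 31744 21815 := u3.step c3 (by decide) (by decide)
theorem u5 : Upto D.val 39680 25895 := u4.step c4 (by decide) (by decide)
theorem u6 : Upto D.val 47616 30770 := u5.step c5 (by decide) (by decide)
theorem u7 : Upto D.val 55552 35464 := u6.step c6 (by decide) (by decide)
theorem u8 : Upto D.val 63488 40817 := u7.step c7 (by decide) (by decide)
theorem u9 : Upto D.val 71424 44773 := u8.step c8 (by decide) (by decide)
theorem u10 : Upto D.val 79360 47752 := u9.step c9 (by decide) (by decide)
theorem u11 : Upto D.val 87296 51631 := u10.step c10 (by decide) (by decide)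
theorem u12 : Upto D.val 95232 56013 := u11.step c11 (by decide) (by decide)
theorem u13 : Upto D.val 103168 61242 := u12.step c12 (by decide) (by decide)
theorem u14 : Upto D.val 111104 64640 := u13.step c13 (by decide) (by decide)
theorem u15 : Upto D.val 119040 68810 := u14.step c14 (by decide) (by decide)
theorem u16 : Upto D.val 126976 73209 := u15.step c15 (by decide) (by decide)
theorem u17 : Upto D.val 134912 76368 := u16.step c16 (by decide) (by decide)
theorem u18 : Upto D.val 142848 79408 := u17.step c17 (by decide) (by decide)
theorem u19 : Upto D.val 150784 81441 := u18.step c18 (by decide) (by decide)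
theorem u20 : Upto D.val 158720 84655 := u19.step c19 (by decide) (by decide)
theorem u21 : Upto D.val 166656 92205 := u20.step c20 (by decide) (by decide)
theorem u22 : Upto D.val 174592 99940 := u21.step c21 (by decide) (by decide)
theorem u23 : Upto D.val 182528 107778 := u22.step c22 (by decide) (by decide)
theorem u24 : Upto D.val 190464 115673 := u23.step c23 (by decide) (by decide)
theorem u25 : Upto D.val 198400 122760 := u24.step c24 (by decide) (by decide)

theorem relIndex {G : Type*} [Group G] (g : Nat → G) (K : Subgroup G) (hinv : ∀ k ∈ invs, g k * g k = 1)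
    (hrel : ∀ r ∈ rels, wprod g r = 1) (hsub : ∀ h ∈ subs, wprod g h ∈ K) :
    K.relIndex (genW g W0) ≠ 0 ∧ K.relIndex (genW g W0) ≤ 122760 :=
  tc_relIndex g K D cl invs rels subs W0 _ _ hinv hrel hsub pre u25

end CfsgH7.ONT0
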