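import Cfsg.Agent.H7.ON.ONT0D

set_option autoImplicit false
set_option maxRecDepth 100000

namespace CfsgH7.ONT0

theorem c0 : Nat.beq (nsum2 D.val 0 124 64) 5667 = true := by decide +kernel

theorem c1 : Nat.beq (nsum2 D.val 7936 124 64) 5407 = true := by decide +kernel

theorem c2 : Nat.beq (nsum2 D.val 15872 124 64) 4681 = true := by decide +kernel

theorem c3 : Nat.beq (nsum2 D.val 23808 124 64) 6060 = true := by decide +kernel

theorem c4 : Nat.beq (nsum2 D.val 31744 124 64) 4080 = true := by decide +kernel

theorem c5 : Nat.beq (nsum2 D.val 39680 124 64) 4875 = true := by decide +kernel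

theorem c6 : Nat.beq (nsum2 D.val 47616 124 64) 4694 = true := by decide +kernel

theorem c7 : Nat.beq (nsum2 D.val 55552 124 64) 5353 = true := by decide +kernel


end CfsgH7.ONT0
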