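import Cfsg.Agent.H7.TCMain
import Cfsg.Agent.H7.ON.ONT0D0
import Cfsg.Agent.H7.ON.ONT0D1
import Cfsg.Agent.H7.ON.ONT0D2
import Cfsg.Agent.H7.ON.ONT0D3
import Cfsg.Agent.H7.ON.ONT0D4
import Cfsg.Agent.H7.ON.ONT0D5
import Cfsg.Agent.H7.ON.ONT0D6

set_option autoImplicit false
set_option maxRecDepth 100000

namespace CfsgH7.ONT0

noncomputable def R : RTr := (RTr.node (RTr.node (RTr.node (RTr.node (RTr.node (RTr.node (RTr.node (RTr.node (RTr.node (RTr.leaf ⟨true,99,[],[],0,0,false⟩) (RTr.leaf ⟨false,0,[165,66,165,66,132,165,66,165,132,66,132],[],27,3,true⟩)) (RTr.node (RTr.leaf ⟨false,198,[66,198,231,66,231,198,66,198,66,231],[],28,8,true⟩) (RTr.leaf ⟨false,0,[165,231,165,231],[],17,1,false⟩))) (RTr.node (RTr.node (RTr.leaf ⟨false,66,[165,132,66,132,165,66,165,66,132,165],[],27,7,true⟩) (RTr.leaf ⟨false,0,[132,165,132,165,132,165],[],12,3,false⟩)) (RTr.node (RTr.leaf ⟨false,0,[33,198,33,198,165,198,66,198,66,165],[],24,9,true⟩)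 (RTr.leaf ⟨false,198,[165,132,33,198,165,132,33,198,165,132,33,198,165,132,33,198,165,132,33],[],26,10,false⟩)))) (RTr.node (RTr.node (RTr.node (RTr.leaf ⟨false,66,[264,99,66],[],22,2,false⟩) (RTr.leaf ⟨false,0,[66,165,66,198,33,165,33,165,198,165],[],25,3,true⟩)) (RTr.node (RTr.leaf ⟨false,198,[33,198,231,33,231,198,33,198,231,33],[],28,10,false⟩) (RTr.leaf ⟨false,0,[198,66,132,165,198,66,132,165,198,66,132,165,198,66,132,165,198,66,132,165],[],26,10,true⟩))) (RTr.node (RTr.node (RTr.leaf ⟨false,0,[231,33,231,198,33,198,231,33,198,33,198],[],28,8,false⟩) (RTr.leaf ⟨false,0,[231,33,198,33,198,231,33,231,198,33,198],[],28,2,false⟩)) (RTr.node (RTr.leaf ⟨false,0,[165,198,165,66,165,66,198,33,165,33],[],25,7,false⟩) (RTr.leaf ⟨false,198,[165,132,33,198,165,132,33,198,165,132,33,198,165,132,33,198,165,132,33],[],26,6,false⟩))))) (RTr.node (RTr.node (RTr.node (RTr.node (RTr.leaf ⟨false,99,[165,99,165],[],8,2,false⟩) (RTr.leaf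 ⟨false,0,[33,33,99,264],[],22,2,true⟩)) (RTr.node (RTr.leaf ⟨false,231,[264,231,264,231,264],[],21,0,false⟩) (RTr.leaf ⟨false,0,[198,165,66,165,66,198,33,165,33,165],[],25,5,true⟩))) (RTr.node (RTr.node (RTr.leaf ⟨false,165,[132,165,132,165,132],[],12,1,false⟩) (RTr.leaf ⟨false,33,[198,165,132,33,198,165,132,33,198,165,132,33,198,165,132,33,198,165,132],[],26,19,false⟩)) (RTr.node (RTr.leaf ⟨false,0,[66,132,165,198,66,132,165,198,66,132,165,198,66,132,165,198,66,132,165,198],[],26,17,true⟩) (RTr.leaf ⟨false,0,[132,33,198,165,132,33,198,165,132,33,198,165,132,33,198,165,132,33,198,165],[],26,5,false⟩)))) (RTr.node (RTr.node (RTr.node (RTr.leaf ⟨false,165,[99,165,99],[],8,3,false⟩) (RTr.leaf ⟨false,0,[165,264,165,264],[],18,0,true⟩)) (RTr.node (RTr.leaf ⟨false,264,[231,264,231,264,231],[],21,3,false⟩) (RTr.leaf ⟨false,0,[198,165,132,33,198,165,132,33,198,165,132,33,198,165,132,33,198,165,132,33],[],26,11,false⟩))) (RTr.node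 (RTr.node (RTr.leaf ⟨false,33,[198,231,33,198,33,198,231,33,231,198],[],28,3,false⟩) (RTr.leaf ⟨false,0,[132,165,132,165,132,165],[],12,5,false⟩)) (RTr.node (RTr.leaf ⟨false,0,[165,99,165,99],[],8,2,false⟩) (RTr.leaf ⟨false,0,[66,132,165,198,66,132,165,198,66,132,165,198,66,132,165,198,66,132,165,198],[],26,1,true⟩)))))) (RTr.node (RTr.node (RTr.node (RTr.node (RTr.node (RTr.leaf ⟨false,99,[99],[],1,0,false⟩) (RTr.leaf ⟨false,0,[33,165,132,33,165,33,165,132,33,132,165],[],27,4,false⟩)) (RTr.node (RTr.leaf ⟨false,0,[66,165,33,198,33,198,165,198,66,198],[],24,2,false⟩) (RTr.leaf ⟨false,0,[99,264,99,264],[],11,2,true⟩))) (RTr.node (RTr.node (RTr.leaf ⟨false,0,[99,264,99,264],[],11,1,false⟩) (RTr.leaf ⟨false,0,[33,198,165,198,66,198,66,165,33,198],[],24,7,true⟩)) (RTr.node (RTr.leaf ⟨false,0,[66,231,198,66,198,66,231,198,66,198,231],[],28,5,true⟩) (RTr.leaf ⟨false,0,[165,132,33,198,165,132,33,198,165,132,33,198,165,132,33,198,165,132,33,198],[],26,18,false⟩))))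 (RTr.node (RTr.node (RTr.node (RTr.leaf ⟨false,165,[66,165,132,66,132,165,66,165,66,132],[],27,8,true⟩) (RTr.leaf ⟨false,0,[198,165,198,66,198,66,165,33,198,33],[],24,7,false⟩)) (RTr.node (RTr.leaf ⟨false,231,[132,231,132],[],14,1,false⟩) (RTr.leaf ⟨false,165,[198,165,198,165,198,165,198,165,198,165,198,165,198,165,198],[],16,6,false⟩))) (RTr.node (RTr.node (RTr.leaf ⟨false,0,[132,231,132,231],[],14,3,false⟩) (RTr.leaf ⟨false,0,[231,165,231,165],[],17,3,true⟩)) (RTr.node (RTr.leaf ⟨false,0,[132,99,132,99,132,99],[],7,0,false⟩) (RTr.leaf ⟨false,0,[66,132,165,198,66,132,165,198,66,132,165,198,66,132,165,198,66,132,165,198],[],26,5,true⟩))))) (RTr.node (RTr.node (RTr.node (RTr.node (RTr.leaf ⟨false,198,[33,165,33,165,198,165,66,165,66],[],25,0,false⟩) (RTr.leaf ⟨false,0,[99,66,66,264],[],22,1,false⟩)) (RTr.node (RTr.leaf ⟨false,0,[165,231,165,231],[],17,0,true⟩) (RTr.leaf ⟨false,0,[165,132,165,132,165,132],[],12,2,false⟩)))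 (RTr.node (RTr.node (RTr.leaf ⟨false,198,[231,66,231,198,66,198,66,231,198,66],[],28,6,true⟩) (RTr.leaf ⟨false,165,[198,165,198,165,198,264,99,165,198],[],23,7,false⟩)) (RTr.node (RTr.leaf ⟨false,0,[198,66,198,231,66,231,198,66,198,66,231],[],28,9,true⟩) (RTr.leaf ⟨false,0,[33,198,165,132,33,198,165,132,33,198,165,132,33,198,165,132,33,198,165,132],[],26,8,false⟩)))) (RTr.node (RTr.node (RTr.node (RTr.leaf ⟨false,198,[264,198,264],[],20,2,false⟩) (RTr.leaf ⟨false,0,[198,66,198,66,165,33,198,33,198,165],[],24,5,false⟩)) (RTr.node (RTr.leaf ⟨false,198,[165,132,33,198,165,132,33,198,165,132,33,198,165,132,33,198,165,132,33],[],26,18,false⟩) (RTr.leaf ⟨false,198,[165,132,33,198,165,132,33,198,165,132,33,198,165,132,33,198,165,132,33],[],26,14,false⟩))) (RTr.node (RTr.node (RTr.leaf ⟨false,165,[198,264,99,165,198,165,198,165,198],[],23,3,false⟩) (RTr.leaf ⟨false,0,[264,165,264,165],[],18,3,true⟩)) (RTr.leaf ⟨false,0,[66,198,66,165,33,198,33,198,165,198],[],24,4,false⟩))))))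 (RTr.node (RTr.node (RTr.node (RTr.node (RTr.node (RTr.node (RTr.leaf ⟨false,264,[99,165,198,165,198,165,198,165,198],[],23,1,false⟩) (RTr.leaf ⟨false,0,[198,231,66,231,198,66,198,66,231,198,66],[],28,7,true⟩)) (RTr.node (RTr.leaf ⟨false,66,[198,231,66,231,198,66,198,66,231,198],[],28,7,true⟩) (RTr.leaf ⟨false,33,[198,165,132,33,198,165,132,33,198,165,132,33,198,165,132,33,198,165,132],[],26,7,false⟩))) (RTr.node (RTr.node (RTr.leaf ⟨false,0,[132,198,132,198],[],13,1,false⟩) (RTr.leaf ⟨false,0,[132,33,132,165,33,165,132,33,165,33,165],[],27,8,false⟩)) (RTr.node (RTr.leaf ⟨false,0,[231,99,231,99],[],10,1,true⟩) (RTr.leaf ⟨false,0,[132,33,198,165,132,33,198,165,132,33,198,165,132,33,198,165,132,33,198,165],[],26,17,false⟩)))) (RTr.node (RTr.node (RTr.node (RTr.leaf ⟨false,165,[132,165,132,165,132],[],12,5,false⟩) (RTr.leaf ⟨false,0,[165,231,165,231],[],17,3,false⟩)) (RTr.node (RTr.leaf ⟨false,198,[264,99,165,198,165,198,165,198,165],[],23,2,false⟩)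 (RTr.leaf ⟨false,0,[165,132,165,132,165,132],[],12,1,true⟩))) (RTr.node (RTr.node (RTr.leaf ⟨false,0,[99,165,99,165],[],8,3,false⟩) (RTr.leaf ⟨false,165,[198,66,132,165,198,66,132,165,198,66,132,165,198,66,132,165,198,66,132],[],26,2,true⟩)) (RTr.node (RTr.leaf ⟨false,0,[165,66,198,33,165,33,165,198,165,66],[],25,3,false⟩) (RTr.leaf ⟨false,0,[165,198,66,132,165,198,66,132,165,198,66,132,165,198,66,132,165,198,66,132],[],26,3,true⟩))))) (RTr.node (RTr.node (RTr.node (RTr.node (RTr.leaf ⟨false,99,[231,99,231],[],10,2,false⟩) (RTr.leaf ⟨false,0,[165,66,198,33,165,33,165,198,165,66],[],25,2,true⟩)) (RTr.node (RTr.leaf ⟨false,0,[33,165,33,165,198,165,66,165,66,198],[],25,9,true⟩) (RTr.leaf ⟨false,0,[132,198,132,198],[],13,0,true⟩))) (RTr.node (RTr.node (RTr.leaf ⟨false,165,[66,198,33,165,33,165,198,165,66],[],25,2,false⟩) (RTr.leaf ⟨false,0,[231,264,231,264,231,264],[],21,4,true⟩)) (RTr.node (RTr.leaf ⟨false,0,[198,33,198,231,33,231,198,33,198,231,33],[],28,0,false⟩)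 (RTr.leaf ⟨false,0,[132,165,132,165,132,165],[],12,1,false⟩)))) (RTr.node (RTr.node (RTr.node (RTr.leaf ⟨false,198,[231,33,198,33,198,231,33,231,198,33],[],28,2,false⟩) (RTr.leaf ⟨false,0,[264,231,264,231,264,231],[],21,0,false⟩)) (RTr.node (RTr.leaf ⟨false,0,[132,264,132,264],[],15,1,false⟩) (RTr.leaf ⟨false,0,[99,165,198,165,198,165,198,165,198,264],[],23,1,false⟩))) (RTr.node (RTr.node (RTr.leaf ⟨false,264,[198,264,198],[],20,1,false⟩) (RTr.leaf ⟨false,0,[198,132,198,132],[],13,1,true⟩)) (RTr.leaf ⟨false,33,[165,33,165,198,165,66,165,66,198],[],25,9,false⟩))))) (RTr.node (RTr.node (RTr.node (RTr.node (RTr.node (RTr.leaf ⟨false,165,[165],[],3,0,false⟩) (RTr.leaf ⟨false,0,[264,99,264,99],[],11,0,false⟩)) (RTr.node (RTr.leaf ⟨false,165,[33,165,132,33,165,33,165,132,33,132],[],27,4,false⟩) (RTr.leaf ⟨false,0,[231,198,231,198,231,198],[],19,2,false⟩))) (RTr.node (RTr.node (RTr.leaf ⟨false,33,[165,198,165,66,165,66,198,33,165],[],25,7,false⟩)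 (RTr.leaf ⟨false,0,[132,99,132,99,132,99],[],7,5,true⟩)) (RTr.node (RTr.leaf ⟨false,132,[165,66,165,132,66,132,165,66,165,66],[],27,9,true⟩) (RTr.leaf ⟨false,0,[33,198,165,132,33,198,165,132,33,198,165,132,33,198,165,132,33,198,165,132],[],26,16,false⟩)))) (RTr.node (RTr.node (RTr.node (RTr.leaf ⟨false,132,[165,33,165,132,33,165,33,165,132,33],[],27,5,false⟩) (RTr.leaf ⟨false,132,[165,198,66,132,165,198,66,132,165,198,66,132,165,198,66,132,165,198,66],[],26,19,true⟩)) (RTr.node (RTr.leaf ⟨false,0,[264,132,264,132],[],15,2,false⟩) (RTr.leaf ⟨false,0,[132,165,198,66,132,165,198,66,132,165,198,66,132,165,198,66,132,165,198,66],[],26,12,true⟩))) (RTr.node (RTr.node (RTr.leaf ⟨false,264,[231,264,231,264,231],[],21,5,false⟩) (RTr.leaf ⟨false,0,[165,33,165,198,165,66,165,66,198,33],[],25,8,true⟩)) (RTr.node (RTr.leaf ⟨false,0,[132,99,132,99,132,99],[],7,2,false⟩) (RTr.leaf ⟨false,0,[132,33,198,165,132,33,198,165,132,33,198,165,132,33,198,165,132,33,198,165],[],26,9,false⟩)))))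 (RTr.node (RTr.node (RTr.node (RTr.node (RTr.leaf ⟨false,264,[99,264,99],[],11,3,false⟩) (RTr.leaf ⟨false,0,[66,231,198,66,198,231,66,231,198,66,198],[],28,0,true⟩)) (RTr.node (RTr.leaf ⟨false,66,[198,66,231,198,66,198,231,66,231,198],[],28,1,true⟩) (RTr.leaf ⟨false,0,[132,165,198,66,132,165,198,66,132,165,198,66,132,165,198,66,132,165,198,66],[],26,16,true⟩))) (RTr.node (RTr.node (RTr.leaf ⟨false,0,[66,264,99,66],[],22,3,false⟩) (RTr.leaf ⟨false,0,[165,198,165,198,165,198,165,198,264,99],[],23,0,false⟩)) (RTr.node (RTr.leaf ⟨false,0,[165,264,165,264],[],18,3,false⟩) (RTr.leaf ⟨false,165,[198,66,132,165,198,66,132,165,198,66,132,165,198,66,132,165,198,66,132],[],26,10,true⟩)))) (RTr.node (RTr.node (RTr.node (RTr.leaf ⟨false,0,[132,198,132,198],[],13,3,false⟩) (RTr.leaf ⟨false,0,[231,264,231,264,231,264],[],21,1,false⟩)) (RTr.node (RTr.leaf ⟨false,165,[99,165,99],[],8,1,false⟩) (RTr.leaf ⟨false,0,[198,165,198,165,198,165,198,264,99,165],[],23,9,false⟩)))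 (RTr.node (RTr.node (RTr.leaf ⟨false,0,[165,99,165,99],[],8,0,false⟩) (RTr.leaf ⟨false,0,[66,132,165,198,66,132,165,198,66,132,165,198,66,132,165,198,66,132,165,198],[],26,13,true⟩)) (RTr.leaf ⟨false,0,[66,132,165,66,165,132,66,132,165,66,165],[],27,0,true⟩))))))) (RTr.node (RTr.node (RTr.node (RTr.node (RTr.node (RTr.node (RTr.node (RTr.leaf ⟨true,165,[],[],2,0,false⟩) (RTr.leaf ⟨false,0,[33,165,33,165,132,33,132,165,33,165,132],[],27,1,false⟩)) (RTr.node (RTr.leaf ⟨false,198,[33,198,231,33,198,33,198,231,33,231],[],28,4,false⟩) (RTr.leaf ⟨false,0,[198,231,198,231,198,231],[],19,2,true⟩))) (RTr.node (RTr.node (RTr.leaf ⟨false,0,[33,132,165,33,165,132,33,165,33,165,132],[],27,7,false⟩) (RTr.leaf ⟨false,0,[132,231,132,231],[],14,2,true⟩)) (RTr.node (RTr.leaf ⟨false,33,[198,33,198,231,33,231,198,33,198,231],[],28,0,false⟩) (RTr.leaf ⟨false,165,[132,33,198,165,132,33,198,165,132,33,198,165,132,33,198,165,132,33,198],[],26,13,false⟩))))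 (RTr.node (RTr.node (RTr.node (RTr.leaf ⟨false,99,[264,99,264],[],11,2,false⟩) (RTr.leaf ⟨false,0,[231,132,231,132],[],14,1,true⟩)) (RTr.node (RTr.leaf ⟨false,198,[165,198,66,198,66,165,33,198,33],[],24,6,false⟩) (RTr.leaf ⟨false,0,[198,165,99,264,198,165,198,165,198,165],[],23,2,true⟩))) (RTr.node (RTr.node (RTr.leaf ⟨false,231,[165,231,165],[],17,3,false⟩) (RTr.leaf ⟨false,0,[99,231,99,231],[],10,0,true⟩)) (RTr.node (RTr.leaf ⟨false,0,[264,165,264,165],[],18,1,true⟩) (RTr.leaf ⟨false,198,[66,132,165,198,66,132,165,198,66,132,165,198,66,132,165,198,66,132,165],[],26,5,true⟩))))) (RTr.node (RTr.node (RTr.node (RTr.node (RTr.leaf ⟨false,99,[198,99,198],[],9,2,false⟩) (RTr.leaf ⟨false,198,[165,198,264,99,165,198,165,198,165],[],23,4,false⟩)) (RTr.node (RTr.leaf ⟨false,0,[132,165,66,165,66,132,165,66,165,132,66],[],27,4,true⟩) (RTr.leaf ⟨false,165,[198,165,198,165,198,165,198,165,198,165,198,165,198,165,198],[],16,8,false⟩)))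 (RTr.node (RTr.node (RTr.leaf ⟨false,0,[165,33,165,132,33,165,33,165,132,33,132],[],27,5,false⟩) (RTr.leaf ⟨false,0,[231,264,231,264,231,264],[],21,2,true⟩)) (RTr.node (RTr.leaf ⟨false,231,[198,66,198,231,66,231,198,66,198,66],[],28,9,true⟩) (RTr.leaf ⟨false,0,[198,165,198,165,99,264,198,165,198,165],[],23,4,true⟩)))) (RTr.node (RTr.node (RTr.node (RTr.leaf ⟨false,165,[231,165,231],[],17,0,false⟩) (RTr.leaf ⟨false,0,[198,165,198,66,198,66,165,33,198,33],[],24,6,true⟩)) (RTr.node (RTr.leaf ⟨false,165,[132,33,198,165,132,33,198,165,132,33,198,165,132,33,198,165,132,33,198],[],26,1,false⟩) (RTr.leaf ⟨false,0,[165,198,165,198,165,198,165,198,165,198,165,198,165,198,165,198],[],16,7,false⟩))) (RTr.node (RTr.node (RTr.leaf ⟨false,165,[66,132,165,66,165,132,66,132,165,66],[],27,0,true⟩) (RTr.leaf ⟨false,33,[198,165,132,33,198,165,132,33,198,165,132,33,198,165,132,33,198,165,132],[],26,3,false⟩)) (RTr.node (RTr.leaf ⟨false,0,[99,264,99,264],[],11,3,false⟩)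 (RTr.leaf ⟨false,33,[198,165,132,33,198,165,132,33,198,165,132,33,198,165,132,33,198,165,132],[],26,11,false⟩)))))) (RTr.node (RTr.node (RTr.node (RTr.node (RTr.node (RTr.leaf ⟨false,264,[264],[],6,0,false⟩) (RTr.leaf ⟨false,0,[165,132,33,165,33,165,132,33,132,165,33],[],27,3,false⟩)) (RTr.node (RTr.leaf ⟨false,0,[264,99,165,198,165,198,165,198,165,198],[],23,2,false⟩) (RTr.leaf ⟨false,0,[198,66,132,165,198,66,132,165,198,66,132,165,198,66,132,165,198,66,132,165],[],26,18,true⟩))) (RTr.node (RTr.node (RTr.leaf ⟨false,0,[165,66,132,165,66,165,132,66,132,165,66],[],27,1,true⟩) (RTr.leaf ⟨false,0,[198,66,198,66,165,33,198,33,198,165],[],24,4,true⟩)) (RTr.node (RTr.leaf ⟨false,165,[66,165,66,132,165,66,165,132,66,132],[],27,2,true⟩) (RTr.leaf ⟨false,0,[264,198,165,198,165,198,165,198,165,99],[],23,9,true⟩)))) (RTr.node (RTr.node (RTr.node (RTr.leaf ⟨false,198,[165,66,165,66,198,33,165,33,165],[],25,5,false⟩) (RTr.leaf ⟨false,165,[198,165,198,264,99,165,198,165,198],[],23,5,false⟩))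 (RTr.node (RTr.leaf ⟨false,99,[264,99,264],[],11,0,false⟩) (RTr.leaf ⟨false,0,[165,198,165,198,165,198,165,198,165,198,165,198,165,198,165,198],[],16,6,true⟩))) (RTr.node (RTr.node (RTr.leaf ⟨false,198,[231,198,231,198,231],[],19,4,false⟩) (RTr.leaf ⟨false,165,[198,66,132,165,198,66,132,165,198,66,132,165,198,66,132,165,198,66,132],[],26,14,true⟩)) (RTr.node (RTr.leaf ⟨false,0,[264,99,66,66],[],22,2,false⟩) (RTr.leaf ⟨false,0,[165,198,66,132,165,198,66,132,165,198,66,132,165,198,66,132,165,198,66,132],[],26,7,true⟩))))) (RTr.node (RTr.node (RTr.node (RTr.node (RTr.leaf ⟨false,165,[231,165,231],[],17,2,false⟩) (RTr.leaf ⟨false,0,[99,198,99,198],[],9,3,false⟩)) (RTr.node (RTr.leaf ⟨false,0,[66,66,264,99],[],22,0,false⟩) (RTr.leaf ⟨false,0,[99,132,99,132,99,132],[],7,1,false⟩))) (RTr.node (RTr.node (RTr.leaf ⟨false,0,[99,132,99,132,99,132],[],7,0,true⟩) (RTr.leaf ⟨false,0,[198,165,132,33,198,165,132,33,198,165,132,33,198,165,132,33,198,165,132,33],[],26,3,false⟩))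 (RTr.node (RTr.leaf ⟨false,0,[66,198,231,66,231,198,66,198,66,231,198],[],28,8,true⟩) (RTr.leaf ⟨false,132,[165,198,66,132,165,198,66,132,165,198,66,132,165,198,66,132,165,198,66],[],26,15,true⟩)))) (RTr.node (RTr.node (RTr.node (RTr.leaf ⟨false,33,[198,231,33,231,198,33,198,231,33,198],[],28,9,false⟩) (RTr.leaf ⟨false,0,[132,264,132,264],[],15,2,true⟩)) (RTr.node (RTr.leaf ⟨false,0,[231,99,231,99],[],10,2,false⟩) (RTr.leaf ⟨false,0,[198,165,198,165,198,165,198,165,99,264],[],23,8,true⟩))) (RTr.node (RTr.node (RTr.leaf ⟨false,264,[165,264,165],[],18,1,false⟩) (RTr.leaf ⟨false,198,[66,132,165,198,66,132,165,198,66,132,165,198,66,132,165,198,66,132,165],[],26,13,true⟩)) (RTr.leaf ⟨false,0,[198,231,33,231,198,33,198,231,33,198,33],[],28,9,false⟩)))))) (RTr.node (RTr.node (RTr.node (RTr.node (RTr.node (RTr.node (RTr.leaf ⟨false,66,[33],[],0,1,false⟩) (RTr.leaf ⟨false,0,[231,165,231,165],[],17,0,false⟩)) (RTr.node (RTr.leaf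 ⟨false,132,[66,132,165,66,165,66,132,165,66,165],[],27,5,true⟩) (RTr.leaf ⟨false,0,[165,99,264,198,165,198,165,198,165,198],[],23,1,true⟩))) (RTr.node (RTr.node (RTr.leaf ⟨false,99,[132,99,132,99,132],[],7,2,false⟩) (RTr.leaf ⟨false,0,[198,99,198,99],[],9,3,true⟩)) (RTr.node (RTr.leaf ⟨false,0,[99,132,99,132,99,132],[],7,5,false⟩) (RTr.leaf ⟨false,0,[165,132,33,198,165,132,33,198,165,132,33,198,165,132,33,198,165,132,33,198],[],26,10,false⟩)))) (RTr.node (RTr.node (RTr.node (RTr.leaf ⟨false,198,[99,198,99],[],9,3,false⟩) (RTr.leaf ⟨false,0,[33,198,165,198,66,198,66,165,33,198],[],24,8,false⟩)) (RTr.node (RTr.leaf ⟨false,264,[132,264,132],[],15,1,false⟩) (RTr.leaf ⟨false,0,[198,165,198,165,198,165,198,165,198,165,198,165,198,165,198,165],[],16,9,true⟩))) (RTr.node (RTr.node (RTr.leaf ⟨false,0,[264,231,264,231,264,231],[],21,5,true⟩) (RTr.leaf ⟨false,0,[198,231,198,231,198,231],[],19,1,false⟩)) (RTr.node (RTr.leaf ⟨false,0,[198,132,198,132],[],13,2,false⟩)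 (RTr.leaf ⟨false,0,[165,198,66,132,165,198,66,132,165,198,66,132,165,198,66,132,165,198,66,132],[],26,15,true⟩))))) (RTr.node (RTr.node (RTr.node (RTr.node (RTr.leaf ⟨false,132,[198,132,198],[],13,2,false⟩) (RTr.leaf ⟨false,0,[165,33,198,33,198,165,198,66,198,66],[],24,0,true⟩)) (RTr.node (RTr.leaf ⟨false,0,[231,198,33,198,231,33,198,33,198,231,33],[],28,6,false⟩) (RTr.leaf ⟨false,0,[66,132,165,198,66,132,165,198,66,132,165,198,66,132,165,198,66,132,165,198],[],26,9,true⟩))) (RTr.node (RTr.node (RTr.leaf ⟨false,198,[66,165,33,198,33,198,165,198,66],[],24,2,false⟩) (RTr.leaf ⟨false,198,[165,132,33,198,165,132,33,198,165,132,33,198,165,132,33,198,165,132,33],[],26,2,false⟩)) (RTr.node (RTr.leaf ⟨false,66,[132,165,66,165,132,66,132,165,66,165],[],27,10,true⟩) (RTr.leaf ⟨false,66,[132,165,198,66,132,165,198,66,132,165,198,66,132,165,198,66,132,165,198],[],26,8,true⟩)))) (RTr.node (RTr.node (RTr.node (RTr.leaf ⟨false,198,[66,231,198,66,198,231,66,231,198,66],[],28,0,true⟩)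 (RTr.leaf ⟨false,0,[231,264,231,264,231,264],[],21,3,false⟩)) (RTr.node (RTr.leaf ⟨false,198,[165,198,165,198,165,198,165,99,264],[],23,7,true⟩) (RTr.leaf ⟨false,66,[132,165,198,66,132,165,198,66,132,165,198,66,132,165,198,66,132,165,198],[],26,4,true⟩))) (RTr.node (RTr.node (RTr.leaf ⟨false,264,[99,264,99],[],11,1,false⟩) (RTr.leaf ⟨false,0,[99,198,99,198],[],9,2,true⟩)) (RTr.leaf ⟨false,0,[198,165,66,165,66,198,33,165,33,165],[],25,6,false⟩))))) (RTr.node (RTr.node (RTr.node (RTr.node (RTr.node (RTr.leaf ⟨false,231,[231],[],5,0,false⟩) (RTr.leaf ⟨false,0,[66,165,66,132,165,66,165,132,66,132,165],[],27,2,true⟩)) (RTr.node (RTr.leaf ⟨false,231,[132,231,132],[],14,3,false⟩) (RTr.leaf ⟨false,0,[99,132,99,132,99,132],[],7,2,true⟩))) (RTr.node (RTr.node (RTr.leaf ⟨false,99,[264,33,33],[],22,3,true⟩) (RTr.leaf ⟨false,0,[33,198,165,132,33,198,165,132,33,198,165,132,33,198,165,132,33,198,165,132],[],26,0,false⟩)) (RTr.node (RTr.leaf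 ⟨false,132,[33,132,165,33,165,132,33,165,33,165],[],27,7,false⟩) (RTr.leaf ⟨false,0,[264,231,264,231,264,231],[],21,1,true⟩)))) (RTr.node (RTr.node (RTr.node (RTr.leaf ⟨false,198,[132,198,132],[],13,1,false⟩) (RTr.leaf ⟨false,0,[231,264,231,264,231,264],[],21,5,false⟩)) (RTr.node (RTr.leaf ⟨false,0,[33,198,231,33,198,33,198,231,33,231,198],[],28,4,false⟩) (RTr.leaf ⟨false,0,[165,198,165,198,165,198,165,99,264,198],[],23,7,true⟩))) (RTr.node (RTr.node (RTr.leaf ⟨false,231,[165,231,165],[],17,1,false⟩) (RTr.leaf ⟨false,0,[165,99,165,99],[],8,3,true⟩)) (RTr.node (RTr.leaf ⟨false,0,[165,264,165,264],[],18,2,true⟩) (RTr.leaf ⟨false,0,[132,165,198,66,132,165,198,66,132,165,198,66,132,165,198,66,132,165,198,66],[],26,8,true⟩))))) (RTr.node (RTr.node (RTr.node (RTr.node (RTr.leaf ⟨false,33,[33,99,264],[],22,1,true⟩) (RTr.leaf ⟨false,0,[132,99,132,99,132,99],[],7,1,true⟩)) (RTr.node (RTr.leaf ⟨false,66,[231,198,66,198,66,231,198,66,198,231],[],28,4,true⟩)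 (RTr.leaf ⟨false,0,[165,198,165,198,165,99,264,198,165,198],[],23,5,true⟩))) (RTr.node (RTr.node (RTr.leaf ⟨false,0,[198,33,198,165,198,66,198,66,165,33],[],24,9,false⟩) (RTr.leaf ⟨false,0,[198,264,198,264],[],20,2,true⟩)) (RTr.node (RTr.leaf ⟨false,0,[33,99,264,33],[],22,1,true⟩) (RTr.leaf ⟨false,165,[132,33,198,165,132,33,198,165,132,33,198,165,132,33,198,165,132,33,198],[],26,9,false⟩)))) (RTr.node (RTr.node (RTr.node (RTr.leaf ⟨false,165,[132,33,132,165,33,165,132,33,165,33],[],27,8,false⟩) (RTr.leaf ⟨false,0,[165,132,33,198,165,132,33,198,165,132,33,198,165,132,33,198,165,132,33,198],[],26,2,false⟩)) (RTr.node (RTr.leaf ⟨false,33,[165,33,165,132,33,132,165,33,165,132],[],27,0,false⟩) (RTr.leaf ⟨false,198,[165,198,165,198,165,198,165,198,165,198,165,198,165,198,165],[],16,9,false⟩))) (RTr.node (RTr.node (RTr.leaf ⟨false,198,[66,198,66,165,33,198,33,198,165],[],24,4,false⟩) (RTr.leaf ⟨false,66,[132,165,198,66,132,165,198,66,132,165,198,66,132,165,198,66,132,165,198],[],26,16,true⟩))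 (RTr.leaf ⟨false,0,[66,132,165,66,165,66,132,165,66,165,132],[],27,5,true⟩)))))))) (RTr.node (RTr.node (RTr.node (RTr.node (RTr.node (RTr.node (RTr.node (RTr.node (RTr.leaf ⟨true,132,[],[],1,0,false⟩) (RTr.leaf ⟨false,0,[99,264,99,264],[],11,0,true⟩)) (RTr.node (RTr.leaf ⟨false,66,[198,33,165,33,165,198,165,66,165],[],25,1,false⟩) (RTr.leaf ⟨false,0,[264,231,264,231,264,231],[],21,3,true⟩))) (RTr.node (RTr.node (RTr.leaf ⟨false,165,[132,66,132,165,66,165,66,132,165,66],[],27,6,true⟩) (RTr.leaf ⟨false,0,[231,132,231,132],[],14,3,true⟩)) (RTr.node (RTr.leaf ⟨false,198,[231,33,231,198,33,198,231,33,198,33],[],28,8,false⟩) (RTr.leaf ⟨false,0,[165,132,33,198,165,132,33,198,165,132,33,198,165,132,33,198,165,132,33,198],[],26,14,false⟩)))) (RTr.node (RTr.node (RTr.node (RTr.leaf ⟨false,165,[264,165,264],[],18,0,false⟩) (RTr.leaf ⟨false,0,[33,165,132,33,132,165,33,165,132,33,165],[],27,10,false⟩)) (RTr.node (RTr.leaf ⟨false,231,[33,198,33,198,231,33,231,198,33,198],[],28,1,false⟩)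 (RTr.leaf ⟨false,0,[198,165,198,264,99,165,198,165,198,165],[],23,5,false⟩))) (RTr.node (RTr.node (RTr.leaf ⟨false,0,[231,132,231,132],[],14,0,false⟩) (RTr.leaf ⟨false,0,[99,132,99,132,99,132],[],7,4,true⟩)) (RTr.node (RTr.leaf ⟨false,0,[165,198,165,66,165,66,198,33,165,33],[],25,6,true⟩) (RTr.leaf ⟨false,0,[33,198,165,132,33,198,165,132,33,198,165,132,33,198,165,132,33,198,165,132],[],26,4,false⟩))))) (RTr.node (RTr.node (RTr.node (RTr.node (RTr.leaf ⟨false,264,[165,264,165],[],18,3,false⟩) (RTr.leaf ⟨false,0,[198,33,165,33,165,198,165,66,165,66],[],25,0,true⟩)) (RTr.node (RTr.leaf ⟨false,0,[165,33,198,33,198,165,198,66,198,66],[],24,1,false⟩) (RTr.leaf ⟨false,0,[198,165,132,33,198,165,132,33,198,165,132,33,198,165,132,33,198,165,132,33],[],26,7,false⟩))) (RTr.node (RTr.node (RTr.leaf ⟨false,0,[231,99,231,99],[],10,0,false⟩) (RTr.leaf ⟨false,0,[231,198,231,198,231,198],[],19,0,false⟩)) (RTr.node (RTr.leaf ⟨false,66,[231,198,66,198,231,66,231,198,66,198],[],28,10,true⟩)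 (RTr.leaf ⟨false,132,[33,198,165,132,33,198,165,132,33,198,165,132,33,198,165,132,33,198,165],[],26,12,false⟩)))) (RTr.node (RTr.node (RTr.node (RTr.leaf ⟨false,231,[198,66,198,66,231,198,66,198,231,66],[],28,3,true⟩) (RTr.leaf ⟨false,0,[33,198,231,33,231,198,33,198,231,33,198],[],28,10,false⟩)) (RTr.node (RTr.leaf ⟨false,231,[99,231,99],[],10,1,false⟩) (RTr.leaf ⟨false,165,[198,165,198,165,198,165,198,165,198,165,198,165,198,165,198],[],16,2,false⟩))) (RTr.node (RTr.node (RTr.leaf ⟨false,66,[132,165,66,165,66,132,165,66,165,132],[],27,4,true⟩) (RTr.leaf ⟨false,0,[132,165,198,66,132,165,198,66,132,165,198,66,132,165,198,66,132,165,198,66],[],26,4,true⟩)) (RTr.node (RTr.leaf ⟨false,0,[264,165,264,165],[],18,2,false⟩) (RTr.leaf ⟨false,132,[165,198,66,132,165,198,66,132,165,198,66,132,165,198,66,132,165,198,66],[],26,11,true⟩)))))) (RTr.node (RTr.node (RTr.node (RTr.node (RTr.node (RTr.leaf ⟨false,264,[33,33,99],[],22,2,true⟩)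 (RTr.leaf ⟨false,132,[231,132,231],[],14,0,false⟩)) (RTr.node (RTr.leaf ⟨false,0,[165,198,66,198,66,165,33,198,33,198],[],24,6,false⟩) (RTr.leaf ⟨false,0,[165,198,66,198,66,165,33,198,33,198],[],24,5,true⟩))) (RTr.node (RTr.node (RTr.leaf ⟨false,33,[132,165,33,165,132,33,165,33,165,132],[],27,6,false⟩) (RTr.leaf ⟨false,0,[66,165,33,198,33,198,165,198,66,198],[],24,1,true⟩)) (RTr.node (RTr.leaf ⟨false,0,[165,132,33,132,165,33,165,132,33,165,33],[],27,9,false⟩) (RTr.leaf ⟨false,0,[165,198,165,99,264,198,165,198,165,198],[],23,3,true⟩)))) (RTr.node (RTr.node (RTr.node (RTr.leaf ⟨false,0,[33,165,33,165,198,165,66,165,66,198],[],25,0,false⟩) (RTr.leaf ⟨false,0,[66,198,66,165,33,198,33,198,165,198],[],24,3,true⟩)) (RTr.node (RTr.leaf ⟨false,99,[132,99,132,99,132],[],7,0,false⟩) (RTr.leaf ⟨false,198,[165,198,165,198,165,198,165,198,165,198,165,198,165,198,165],[],16,7,false⟩))) (RTr.node (RTr.node (RTr.leaf ⟨false,231,[99,231,99],[],10,3,false⟩)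 (RTr.leaf ⟨false,0,[165,66,165,66,198,33,165,33,165,198],[],25,5,false⟩)) (RTr.node (RTr.leaf ⟨false,132,[99,132,99,132,99],[],7,3,false⟩) (RTr.leaf ⟨false,0,[165,132,165,132,165,132],[],12,5,true⟩))))) (RTr.node (RTr.node (RTr.node (RTr.node (RTr.leaf ⟨false,165,[198,66,198,66,165,33,198,33,198],[],24,5,false⟩) (RTr.leaf ⟨false,0,[165,264,165,264],[],18,1,false⟩)) (RTr.node (RTr.leaf ⟨false,0,[66,165,132,66,132,165,66,165,66,132,165],[],27,8,true⟩) (RTr.leaf ⟨false,0,[264,99,264,99],[],11,1,true⟩))) (RTr.node (RTr.node (RTr.leaf ⟨false,0,[264,132,264,132],[],15,0,false⟩) (RTr.leaf ⟨false,0,[264,231,264,231,264,231],[],21,4,false⟩)) (RTr.node (RTr.leaf ⟨false,0,[99,264,33,33],[],22,0,true⟩) (RTr.leaf ⟨false,165,[132,33,198,165,132,33,198,165,132,33,198,165,132,33,198,165,132,33,198],[],26,5,false⟩)))) (RTr.node (RTr.node (RTr.node (RTr.leaf ⟨false,33,[165,132,33,132,165,33,165,132,33,165],[],27,9,false⟩) (RTr.leaf ⟨false,0,[231,264,231,264,231,264],[],21,0,true⟩))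 (RTr.node (RTr.leaf ⟨false,165,[132,165,132,165,132],[],12,3,false⟩) (RTr.leaf ⟨false,0,[198,66,132,165,198,66,132,165,198,66,132,165,198,66,132,165,198,66,132,165],[],26,6,true⟩))) (RTr.node (RTr.node (RTr.leaf ⟨false,198,[33,198,165,198,66,198,66,165,33],[],24,8,false⟩) (RTr.leaf ⟨false,132,[33,198,165,132,33,198,165,132,33,198,165,132,33,198,165,132,33,198,165],[],26,4,false⟩)) (RTr.leaf ⟨false,0,[264,198,264,198],[],20,1,true⟩)))))) (RTr.node (RTr.node (RTr.node (RTr.node (RTr.node (RTr.node (RTr.leaf ⟨true,231,[],[],4,0,false⟩) (RTr.leaf ⟨false,0,[33,231,198,33,198,231,33,198,33,198,231],[],28,7,false⟩)) (RTr.node (RTr.leaf ⟨false,0,[231,198,66,198,231,66,231,198,66,198,66],[],28,10,true⟩) (RTr.leaf ⟨false,0,[231,198,231,198,231,198],[],19,1,true⟩))) (RTr.node (RTr.node (RTr.leaf ⟨false,0,[99,198,99,198],[],9,1,false⟩) (RTr.leaf ⟨false,0,[198,33,198,165,198,66,198,66,165,33],[],24,8,true⟩)) (RTr.node (RTr.leaf ⟨false,264,[231,264,231,264,231],[],21,1,false⟩)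 (RTr.leaf ⟨false,198,[165,198,165,99,264,198,165,198,165],[],23,3,true⟩)))) (RTr.node (RTr.node (RTr.node (RTr.leaf ⟨false,132,[264,132,264],[],15,2,false⟩) (RTr.leaf ⟨false,0,[198,99,198,99],[],9,2,false⟩)) (RTr.node (RTr.leaf ⟨false,264,[198,165,198,165,198,165,198,165,99],[],23,8,true⟩) (RTr.leaf ⟨false,0,[198,165,198,165,198,165,99,264,198,165],[],23,6,true⟩))) (RTr.node (RTr.node (RTr.leaf ⟨false,0,[99,231,99,231],[],10,3,false⟩) (RTr.leaf ⟨false,165,[198,66,132,165,198,66,132,165,198,66,132,165,198,66,132,165,198,66,132],[],26,18,true⟩)) (RTr.node (RTr.leaf ⟨false,0,[198,132,198,132],[],13,3,true⟩) (RTr.leaf ⟨false,0,[165,132,165,132,165,132],[],12,3,true⟩))))) (RTr.node (RTr.node (RTr.node (RTr.node (RTr.leaf ⟨false,33,[66],[],0,0,false⟩) (RTr.leaf ⟨false,0,[33,165,198,165,66,165,66,198,33,165],[],25,7,true⟩)) (RTr.node (RTr.leaf ⟨false,0,[198,231,33,198,33,198,231,33,231,198,33],[],28,3,false⟩) (RTr.leaf ⟨false,0,[99,198,99,198],[],9,0,true⟩)))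 (RTr.node (RTr.node (RTr.leaf ⟨false,132,[33,165,33,165,132,33,132,165,33,165],[],27,1,false⟩) (RTr.leaf ⟨false,0,[198,165,132,33,198,165,132,33,198,165,132,33,198,165,132,33,198,165,132,33],[],26,19,false⟩)) (RTr.node (RTr.leaf ⟨false,231,[33,231,198,33,198,231,33,198,33,198],[],28,7,false⟩) (RTr.leaf ⟨false,0,[132,33,198,165,132,33,198,165,132,33,198,165,132,33,198,165,132,33,198,165],[],26,1,false⟩)))) (RTr.node (RTr.node (RTr.node (RTr.leaf ⟨false,0,[33,198,33,198,165,198,66,198,66,165],[],24,0,false⟩) (RTr.leaf ⟨false,0,[198,66,198,66,231,198,66,198,231,66,231],[],28,3,true⟩)) (RTr.node (RTr.leaf ⟨false,99,[165,198,165,198,165,198,165,198,264],[],23,0,false⟩) (RTr.leaf ⟨false,165,[132,33,198,165,132,33,198,165,132,33,198,165,132,33,198,165,132,33,198],[],26,17,false⟩))) (RTr.node (RTr.node (RTr.leaf ⟨false,99,[66,66,264],[],22,0,false⟩) (RTr.leaf ⟨false,0,[165,198,264,99,165,198,165,198,165,198],[],23,4,false⟩)) (RTr.leaf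 ⟨false,0,[165,66,165,132,66,132,165,66,165,66,132],[],27,9,true⟩))))) (RTr.node (RTr.node (RTr.node (RTr.node (RTr.node (RTr.leaf ⟨false,198,[198],[],4,0,false⟩) (RTr.leaf ⟨false,0,[198,66,165,33,198,33,198,165,198,66],[],24,2,true⟩)) (RTr.node (RTr.leaf ⟨false,231,[198,231,198,231,198],[],19,1,false⟩) (RTr.leaf ⟨false,165,[198,165,198,165,198,165,99,264,198],[],23,6,true⟩))) (RTr.node (RTr.node (RTr.leaf ⟨false,66,[198,66,165,33,198,33,198,165,198],[],24,3,false⟩) (RTr.leaf ⟨false,165,[99,264,198,165,198,165,198,165,198],[],23,0,true⟩)) (RTr.node (RTr.leaf ⟨false,66,[165,33,198,33,198,165,198,66,198],[],24,1,false⟩) (RTr.leaf ⟨false,0,[231,198,231,198,231,198],[],19,4,false⟩)))) (RTr.node (RTr.node (RTr.node (RTr.leaf ⟨false,132,[165,66,165,66,132,165,66,165,132,66],[],27,3,true⟩) (RTr.leaf ⟨false,198,[66,198,66,231,198,66,198,231,66,231],[],28,2,true⟩)) (RTr.node (RTr.leaf ⟨false,0,[198,66,231,198,66,198,231,66,231,198,66],[],28,1,true⟩)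 (RTr.leaf ⟨false,0,[165,198,165,198,165,198,264,99,165,198],[],23,8,false⟩))) (RTr.node (RTr.node (RTr.leaf ⟨false,165,[198,165,66,165,66,198,33,165,33],[],25,6,false⟩) (RTr.leaf ⟨false,0,[198,231,198,231,198,231],[],19,5,false⟩)) (RTr.node (RTr.leaf ⟨false,0,[165,99,165,99],[],8,1,true⟩) (RTr.leaf ⟨false,33,[198,165,132,33,198,165,132,33,198,165,132,33,198,165,132,33,198,165,132],[],26,15,false⟩))))) (RTr.node (RTr.node (RTr.node (RTr.node (RTr.leaf ⟨false,66,[66,264,99],[],22,3,false⟩) (RTr.leaf ⟨false,0,[66,198,33,165,33,165,198,165,66,165],[],25,1,true⟩)) (RTr.node (RTr.leaf ⟨false,0,[132,165,66,165,132,66,132,165,66,165,66],[],27,10,true⟩) (RTr.leaf ⟨false,0,[198,165,198,165,198,264,99,165,198,165],[],23,7,false⟩))) (RTr.node (RTr.node (RTr.leaf ⟨false,0,[198,264,198,264],[],20,1,false⟩) (RTr.leaf ⟨false,0,[264,231,264,231,264,231],[],21,2,false⟩)) (RTr.node (RTr.leaf ⟨false,0,[132,264,132,264],[],15,3,false⟩) (RTr.leaf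 ⟨false,0,[231,198,231,198,231,198],[],19,5,true⟩)))) (RTr.node (RTr.node (RTr.node (RTr.leaf ⟨false,198,[99,198,99],[],9,1,false⟩) (RTr.leaf ⟨false,0,[99,231,99,231],[],10,2,true⟩)) (RTr.node (RTr.leaf ⟨false,66,[132,165,198,66,132,165,198,66,132,165,198,66,132,165,198,66,132,165,198],[],26,0,true⟩) (RTr.leaf ⟨false,0,[198,264,99,165,198,165,198,165,198,165],[],23,3,false⟩))) (RTr.node (RTr.node (RTr.leaf ⟨false,0,[198,132,198,132],[],13,0,false⟩) (RTr.leaf ⟨false,0,[99,165,99,165],[],8,0,true⟩)) (RTr.leaf ⟨false,0,[33,165,198,165,66,165,66,198,33,165],[],25,8,false⟩))))))) (RTr.node (RTr.node (RTr.node (RTr.node (RTr.node (RTr.node (RTr.node (RTr.leaf ⟨true,198,[],[],3,0,false⟩) (RTr.leaf ⟨false,0,[264,99,264,99],[],11,2,false⟩)) (RTr.node (RTr.leaf ⟨false,33,[165,132,33,165,33,165,132,33,132,165],[],27,3,false⟩) (RTr.leaf ⟨false,0,[231,198,231,198,231,198],[],19,3,true⟩))) (RTr.node (RTr.node (RTr.leaf ⟨false,0,[165,33,165,132,33,132,165,33,165,132,33],[],27,0,false⟩)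 (RTr.leaf ⟨false,0,[66,198,66,231,198,66,198,231,66,231,198],[],28,2,true⟩)) (RTr.node (RTr.leaf ⟨false,198,[264,198,264],[],20,0,false⟩) (RTr.leaf ⟨false,0,[165,198,165,198,165,198,165,198,165,198,165,198,165,198,165,198],[],16,8,true⟩)))) (RTr.node (RTr.node (RTr.node (RTr.leaf ⟨false,231,[264,231,264,231,264],[],21,4,false⟩) (RTr.leaf ⟨false,0,[132,264,132,264],[],15,0,true⟩)) (RTr.node (RTr.leaf ⟨false,99,[198,99,198],[],9,0,false⟩) (RTr.leaf ⟨false,0,[165,198,165,198,264,99,165,198,165,198],[],23,6,false⟩))) (RTr.node (RTr.node (RTr.leaf ⟨false,0,[33,198,33,198,231,33,231,198,33,198,231],[],28,1,false⟩) (RTr.leaf ⟨false,0,[99,231,99,231],[],10,1,false⟩)) (RTr.node (RTr.leaf ⟨false,0,[66,198,33,165,33,165,198,165,66,165],[],25,2,false⟩) (RTr.leaf ⟨false,0,[198,165,198,165,198,165,198,165,198,165,198,165,198,165,198,165],[],16,8,false⟩))))) (RTr.node (RTr.node (RTr.node (RTr.node (RTr.leaf ⟨false,264,[198,264,198],[],20,3,false⟩)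 (RTr.leaf ⟨false,198,[165,198,165,198,264,99,165,198,165],[],23,6,false⟩)) (RTr.node (RTr.leaf ⟨false,165,[132,33,165,33,165,132,33,132,165,33],[],27,2,false⟩) (RTr.leaf ⟨false,0,[165,198,165,198,165,198,165,198,165,198,165,198,165,198,165,198],[],16,0,true⟩))) (RTr.node (RTr.node (RTr.leaf ⟨false,33,[198,165,198,66,198,66,165,33,198],[],24,7,false⟩) (RTr.leaf ⟨false,0,[231,99,231,99],[],10,3,true⟩)) (RTr.node (RTr.leaf ⟨false,198,[231,198,231,198,231],[],19,0,false⟩) (RTr.leaf ⟨false,132,[33,198,165,132,33,198,165,132,33,198,165,132,33,198,165,132,33,198,165],[],26,16,false⟩)))) (RTr.node (RTr.node (RTr.node (RTr.leaf ⟨false,231,[198,231,198,231,198],[],19,5,false⟩) (RTr.leaf ⟨false,0,[165,33,165,198,165,66,165,66,198,33],[],25,9,false⟩)) (RTr.node (RTr.leaf ⟨false,33,[198,33,198,165,198,66,198,66,165],[],24,9,false⟩) (RTr.leaf ⟨false,165,[198,165,99,264,198,165,198,165,198],[],23,2,true⟩))) (RTr.node (RTr.node (RTr.leaf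 ⟨false,132,[198,132,198],[],13,0,false⟩) (RTr.leaf ⟨false,0,[132,198,132,198],[],13,2,true⟩)) (RTr.node (RTr.leaf ⟨false,0,[132,165,33,165,132,33,165,33,165,132,33],[],27,6,false⟩) (RTr.leaf ⟨false,165,[198,165,198,165,198,165,198,165,198,165,198,165,198,165,198],[],16,12,false⟩)))))) (RTr.node (RTr.node (RTr.node (RTr.node (RTr.node (RTr.leaf ⟨false,132,[132],[],2,0,false⟩) (RTr.leaf ⟨false,0,[264,165,264,165],[],18,0,false⟩)) (RTr.node (RTr.leaf ⟨false,33,[231,198,33,198,231,33,198,33,198,231],[],28,6,false⟩) (RTr.leaf ⟨false,0,[198,231,198,231,198,231],[],19,0,true⟩))) (RTr.node (RTr.node (RTr.leaf ⟨false,99,[132,99,132,99,132],[],7,4,false⟩) (RTr.leaf ⟨false,0,[132,99,132,99,132,99],[],7,4,false⟩)) (RTr.node (RTr.leaf ⟨false,0,[165,132,66,132,165,66,165,66,132,165,66],[],27,7,true⟩) (RTr.leaf ⟨false,0,[132,33,198,165,132,33,198,165,132,33,198,165,132,33,198,165,132,33,198,165],[],26,13,false⟩)))) (RTr.node (RTr.node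 (RTr.node (RTr.leaf ⟨false,165,[33,165,132,33,132,165,33,165,132,33],[],27,10,false⟩) (RTr.leaf ⟨false,132,[33,198,165,132,33,198,165,132,33,198,165,132,33,198,165,132,33,198,165],[],26,0,false⟩)) (RTr.node (RTr.leaf ⟨false,0,[231,66,231,198,66,198,66,231,198,66,198],[],28,6,true⟩) (RTr.leaf ⟨false,198,[165,198,165,198,165,99,264,198,165],[],23,5,true⟩))) (RTr.node (RTr.node (RTr.leaf ⟨false,66,[165,66,198,33,165,33,165,198,165],[],25,3,false⟩) (RTr.leaf ⟨false,231,[198,231,198,231,198],[],19,3,false⟩)) (RTr.node (RTr.leaf ⟨false,0,[264,132,264,132],[],15,3,true⟩) (RTr.leaf ⟨false,165,[198,66,132,165,198,66,132,165,198,66,132,165,198,66,132,165,198,66,132],[],26,6,true⟩))))) (RTr.node (RTr.node (RTr.node (RTr.node (RTr.leaf ⟨false,165,[33,165,198,165,66,165,66,198,33],[],25,8,false⟩) (RTr.leaf ⟨false,0,[264,198,264,198],[],20,2,false⟩)) (RTr.node (RTr.leaf ⟨false,0,[198,66,165,33,198,33,198,165,198,66],[],24,3,false⟩)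 (RTr.leaf ⟨false,0,[198,231,198,231,198,231],[],19,4,true⟩))) (RTr.node (RTr.node (RTr.leaf ⟨false,0,[198,99,198,99],[],9,0,false⟩) (RTr.leaf ⟨false,0,[198,264,198,264],[],20,0,true⟩)) (RTr.node (RTr.leaf ⟨false,0,[66,165,66,198,33,165,33,165,198,165],[],25,4,false⟩) (RTr.leaf ⟨false,66,[132,165,198,66,132,165,198,66,132,165,198,66,132,165,198,66,132,165,198],[],26,12,true⟩)))) (RTr.node (RTr.node (RTr.node (RTr.leaf ⟨false,0,[264,198,264,198],[],20,0,false⟩) (RTr.leaf ⟨false,198,[231,198,231,198,231],[],19,2,false⟩)) (RTr.node (RTr.leaf ⟨false,132,[99,132,99,132,99],[],7,1,false⟩) (RTr.leaf ⟨false,165,[198,165,198,165,99,264,198,165,198],[],23,4,true⟩))) (RTr.node (RTr.node (RTr.leaf ⟨false,66,[165,66,132,165,66,165,132,66,132,165],[],27,1,true⟩) (RTr.leaf ⟨false,132,[165,198,66,132,165,198,66,132,165,198,66,132,165,198,66,132,165,198,66],[],26,3,true⟩)) (RTr.leaf ⟨false,0,[132,33,165,33,165,132,33,132,165,33,165],[],27,2,false⟩))))))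 (RTr.node (RTr.node (RTr.node (RTr.node (RTr.node (RTr.node (RTr.leaf ⟨false,33,[99,264,33],[],22,0,true⟩) (RTr.leaf ⟨false,0,[264,132,264,132],[],15,1,true⟩)) (RTr.node (RTr.leaf ⟨false,132,[264,132,264],[],15,0,false⟩) (RTr.leaf ⟨false,0,[165,66,165,66,198,33,165,33,165,198],[],25,4,true⟩))) (RTr.node (RTr.node (RTr.leaf ⟨false,264,[99,66,66],[],22,1,false⟩) (RTr.leaf ⟨false,198,[66,132,165,198,66,132,165,198,66,132,165,198,66,132,165,198,66,132,165],[],26,1,true⟩)) (RTr.node (RTr.leaf ⟨false,99,[231,99,231],[],10,0,false⟩) (RTr.leaf ⟨false,0,[198,66,132,165,198,66,132,165,198,66,132,165,198,66,132,165,198,66,132,165],[],26,2,true⟩)))) (RTr.node (RTr.node (RTr.node (RTr.leaf ⟨false,198,[132,198,132],[],13,3,false⟩) (RTr.leaf ⟨false,0,[132,231,132,231],[],14,1,false⟩)) (RTr.node (RTr.leaf ⟨false,0,[264,99,264,99],[],11,3,true⟩) (RTr.leaf ⟨false,0,[99,264,198,165,198,165,198,165,198,165],[],23,0,true⟩))) (RTr.node (RTr.node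 (RTr.leaf ⟨false,132,[165,132,165,132,165],[],12,4,false⟩) (RTr.leaf ⟨false,0,[231,165,231,165],[],17,1,true⟩)) (RTr.node (RTr.leaf ⟨false,0,[231,132,231,132],[],14,2,false⟩) (RTr.leaf ⟨false,198,[66,132,165,198,66,132,165,198,66,132,165,198,66,132,165,198,66,132,165],[],26,9,true⟩))))) (RTr.node (RTr.node (RTr.node (RTr.node (RTr.leaf ⟨false,132,[231,132,231],[],14,2,false⟩) (RTr.leaf ⟨false,0,[99,165,99,165],[],8,2,true⟩)) (RTr.node (RTr.leaf ⟨false,0,[99,165,99,165],[],8,1,false⟩) (RTr.leaf ⟨false,0,[198,231,198,231,198,231],[],19,3,false⟩))) (RTr.node (RTr.node (RTr.leaf ⟨false,0,[231,198,66,198,66,231,198,66,198,231,66],[],28,4,true⟩) (RTr.leaf ⟨false,0,[165,132,165,132,165,132],[],12,0,false⟩)) (RTr.node (RTr.leaf ⟨false,198,[165,99,264,198,165,198,165,198,165],[],23,1,true⟩) (RTr.leaf ⟨false,0,[132,165,132,165,132,165],[],12,2,true⟩)))) (RTr.node (RTr.node (RTr.node (RTr.leaf ⟨false,231,[66,231,198,66,198,66,231,198,66,198],[],28,5,true⟩)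 (RTr.leaf ⟨false,0,[231,165,231,165],[],17,2,false⟩)) (RTr.node (RTr.leaf ⟨false,132,[165,132,165,132,165],[],12,0,false⟩) (RTr.leaf ⟨false,0,[132,165,132,165,132,165],[],12,0,true⟩))) (RTr.node (RTr.node (RTr.leaf ⟨false,198,[165,198,165,198,165,198,264,99,165],[],23,8,false⟩) (RTr.leaf ⟨false,0,[132,165,198,66,132,165,198,66,132,165,198,66,132,165,198,66,132,165,198,66],[],26,0,true⟩)) (RTr.leaf ⟨false,0,[198,33,165,33,165,198,165,66,165,66],[],25,1,false⟩))))) (RTr.node (RTr.node (RTr.node (RTr.node (RTr.node (RTr.leaf ⟨false,264,[132,264,132],[],15,3,false⟩) (RTr.leaf ⟨false,0,[99,132,99,132,99,132],[],7,3,false⟩)) (RTr.node (RTr.leaf ⟨false,132,[165,132,165,132,165],[],12,2,false⟩) (RTr.leaf ⟨false,0,[165,132,165,132,165,132],[],12,4,false⟩))) (RTr.node (RTr.node (RTr.leaf ⟨false,0,[132,99,132,99,132,99],[],7,3,true⟩) (RTr.leaf ⟨false,99,[264,198,165,198,165,198,165,198,165],[],23,9,true⟩)) (RTr.node (RTr.leaf ⟨false,0,[132,165,132,165,132,165],[],12,4,true⟩)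 (RTr.leaf ⟨false,132,[165,198,66,132,165,198,66,132,165,198,66,132,165,198,66,132,165,198,66],[],26,7,true⟩)))) (RTr.node (RTr.node (RTr.node (RTr.leaf ⟨false,165,[264,165,264],[],18,2,false⟩) (RTr.leaf ⟨false,231,[264,231,264,231,264],[],21,2,false⟩)) (RTr.node (RTr.leaf ⟨false,0,[198,33,198,231,33,198,33,198,231,33,231],[],28,5,false⟩) (RTr.leaf ⟨false,0,[198,165,198,165,198,165,198,165,198,165,198,165,198,165,198,165],[],16,7,true⟩))) (RTr.node (RTr.node (RTr.leaf ⟨false,165,[66,165,66,198,33,165,33,165,198],[],25,4,false⟩) (RTr.leaf ⟨false,198,[66,132,165,198,66,132,165,198,66,132,165,198,66,132,165,198,66,132,165],[],26,17,true⟩)) (RTr.node (RTr.leaf ⟨false,0,[264,33,33,99],[],22,3,true⟩) (RTr.leaf ⟨false,0,[198,165,132,33,198,165,132,33,198,165,132,33,198,165,132,33,198,165,132,33],[],26,15,false⟩))))) (RTr.node (RTr.node (RTr.node (RTr.node (RTr.leaf ⟨false,132,[99,132,99,132,99],[],7,5,false⟩) (RTr.leaf ⟨false,0,[198,99,198,99],[],9,1,true⟩))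 (RTr.node (RTr.leaf ⟨false,165,[198,165,198,165,198,165,198,264,99],[],23,9,false⟩) (RTr.leaf ⟨false,0,[165,132,33,198,165,132,33,198,165,132,33,198,165,132,33,198,165,132,33,198],[],26,6,false⟩))) (RTr.node (RTr.node (RTr.leaf ⟨false,231,[198,33,198,231,33,198,33,198,231,33],[],28,5,false⟩) (RTr.leaf ⟨false,0,[132,231,132,231],[],14,0,true⟩)) (RTr.node (RTr.leaf ⟨false,0,[165,231,165,231],[],17,2,true⟩) (RTr.leaf ⟨false,0,[165,198,66,132,165,198,66,132,165,198,66,132,165,198,66,132,165,198,66,132],[],26,19,true⟩)))) (RTr.node (RTr.node (RTr.node (RTr.leaf ⟨false,99,[165,99,165],[],8,0,false⟩) (RTr.leaf ⟨false,198,[165,198,165,198,165,198,165,198,165,198,165,198,165,198,165],[],16,13,false⟩)) (RTr.node (RTr.leaf ⟨false,165,[33,198,33,198,165,198,66,198,66],[],24,0,false⟩) (RTr.leaf ⟨false,132,[33,198,165,132,33,198,165,132,33,198,165,132,33,198,165,132,33,198,165],[],26,8,false⟩))) (RTr.node (RTr.node (RTr.leaf ⟨false,0,[198,264,198,264],[],20,3,false⟩)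 (RTr.leaf ⟨false,0,[264,198,264,198],[],20,3,true⟩)) (RTr.leaf ⟨false,0,[132,66,132,165,66,165,66,132,165,66,165],[],27,6,true⟩)))))))))

noncomputable def D : TCD where
  N := nat_lit 197552
  E := (Tr.node (Tr.node (Tr.node (Tr.node (Tr.node e0 e16) (Tr.node e8 e24)) (Tr.node (Tr.node e4 e20) (Tr.node e12 e28))) (Tr.node (Tr.node (Tr.node e2 e18) (Tr.node e10 e26)) (Tr.node (Tr.node e6 e22) (Tr.node e14 e30)))) (Tr.node (Tr.node (Tr.node (Tr.node e1 e17) (Tr.node e9 e25)) (Tr.node (Tr.node e5 e21) (Tr.node e13 e29))) (Tr.node (Tr.node (Tr.node e3 e19) (Tr.node e11 e27)) (Tr.node (Tr.node e7 e23) (Tr.node e15 e31)))))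
  lb := nat_lit 5
  lm := nat_lit 31
  rw := nat_lit 297
  em := nat_lit 8589934591
  vm := nat_lit 524287
  fl := nat_lit 262144
  wv := nat_lit 19
  inf := nat_lit 8589410304
  J := (Tr.node (Tr.node (Tr.node (Tr.node (Tr.node j0 j16) (Tr.node j8 j24)) (Tr.node (Tr.node j4 j20) (Tr.node j12 j28))) (Tr.node (Tr.node (Tr.node j2 j18) (Tr.node j10 j26)) (Tr.node (Tr.node j6 j22) (Tr.node j14 j30)))) (Tr.node (Tr.node (Tr.node (Tr.node j1 j17) (Tr.node j9 j25)) (Tr.node (Tr.node j5 j21) (Tr.node j13 j29))) (Tr.node (Tr.node (Tr.node j3 j19) (Tr.node j11 j27)) (Tr.node (Tr.node j7 j23) (Tr.node j15 j31)))))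
  jw := nat_lit 26
  jm := nat_lit 67108863
  jr := nat_lit 260
  pk := nat_lit 297
  nr := nat_lit 500
  R := R
  cols := [(nat_lit 33,nat_lit 52),(nat_lit 66,nat_lit 78),(nat_lit 99,nat_lit 104),(nat_lit 132,nat_lit 130),(nat_lit 165,nat_lit 156),(nat_lit 198,nat_lit 182),(nat_lit 231,nat_lit 208),(nat_lit 264,nat_lit 234)]
  j0 := nat_lit 26
  big := nat_lit 1000000000

def cl : List (Nat × Nat) := [(33,0),(66,1),(99,2),(132,4),(165,6),(198,8),(231,10),(264,12)]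
def invs : List Nat := [1,2,3,4,5,6]
def rels : List (List Nat) := [[0,1],[2,3],[4,5],[6,7],[8,9],[10,11],[12,13],[2,4,2,4,2,4],[2,6,2,6],[2,8,2,8],[2,10,2,10],[2,12,2,12],[4,6,4,6,4,6],[4,8,4,8],[4,10,4,10],[4,12,4,12],[6,8,6,8,6,8,6,8,6,8,6,8,6,8,6,8],[6,10,6,10],[6,12,6,12],[8,10,8,10,8,10],[8,12,8,12],[10,12,10,12,10,12],[2,12,1,1],[2,12,9,7,9,7,9,7,9,7],[6,1,9,1,9,6,8,0,8,0],[8,1,7,1,7,8,6,0,6,0],[4,6,8,0,4,6,8,0,4,6,8,0,4,6,8,0,4,6,8,0],[0,4,7,0,6,5,0,4,7,0,6],[0,10,9,0,8,11,0,10,9,0,8]]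
def subs : List (List Nat) := [[2],[4],[6],[8],[10],[12]]
def W0 : List (List Nat) := [[0],[2],[4],[6],[8],[10],[12]]


end CfsgH7.ONT0
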